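import Groth.Agent.BaseAmpLib.PC
import Groth.Agent.FppfPCLib.Scheme
import Groth.Agent.RelPCLib.TorBC
import Groth.Agent.KunnethCxLib.Tor
import Groth.Agent.DualFMLib.TorSch

/-!
# Relative pseudo-coherence and tor-independent base change
-/

set_option autoImplicit false
set_option linter.style.haveILetI false
set_option backward.isDefEq.respectTransparency false
set_option backward.isDefEq.respectTransparency.types false
set_option maxHeartbeats 1000000

universe u

open CategoryTheory CategoryTheory.Limits AlgebraicGeometry Opposite TensorProduct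
open Groth.Agent

attribute [local instance] HasDerivedCategory.standard
attribute [local instance] FlatRelPCLib.tildeExact

noncomputable section

namespace TensorPCLib

/-- Tor-independent base change along a cocartesian square. -/
theorem isRel_isPushout {R R' A A' : Type u} [CommRing R] [CommRing R'] [CommRing A] [CommRing A']
    [Algebra R R'] [Algebra R A] [Algebra R A'] [Algebra R' A'] [Algebra A A'] [IsScalarTower R A A']
    [IsScalarTower R R' A'] [Algebra.IsPushout R R' A A'] [Algebra.FiniteType R A]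
    (htor : ∀ p : ℕ, 0 < p → Subsingleton (DRing.Tor R p A R'))
    [DRing.HasLBaseChange (algebraMap A A')] (M : Dual.D A) (m : ℤ)
    (h : DerCA.IsRelPseudoCoherent R A m M) :
    DerCA.IsRelPseudoCoherent R' A' m ((DRing.LBaseChange (algebraMap A A')).obj M) := by
  let ι : A →ₐ[R] R' ⊗[R] A := Algebra.TensorProduct.includeRight
  haveI := DRingLib.hasLBaseChange ι.toRingHom
  obtain ⟨n, β, hβ, hv⟩ := RelPCLib.isRel_torBC htor M m h
  let e := Algebra.IsPushout.equiv R R' A A'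
  have he : Function.Bijective e.toRingEquiv.toRingHom := e.bijective
  have hcomp : algebraMap A A' = e.toRingEquiv.toRingHom.comp ι.toRingHom := RingHom.ext fun a => by
    change algebraMap A A' a = e ((1 : R') ⊗ₜ a)
    rw [Algebra.IsPushout.equiv_tmul, map_one, one_mul]
  let γ : MvPolynomial (Fin n) R' →ₐ[R'] A' := e.toAlgHom.comp β
  refine ⟨n, γ, e.surjective.comp hβ, ?_⟩
  have hK : RelPCLib.PV β.toRingHom m _ := hv
  obtain ⟨b, hb⟩ := RelPCLib.exists_bound_of_pc (P := MvPolynomial (Fin n) R') hK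
  obtain ⟨G, hGb, hGf, ⟨eG⟩⟩ := DRingLib.exists_free_rep ((DRing.LBaseChange ι.toRingHom).obj M) b fun i hi => by
    have : Subsingleton ((DRingLib.Hn (R' ⊗[R] A) i).obj ((DRing.LBaseChange ι.toRingHom).obj M)) :=
      (RelPCLib.isZero_restrict_iff _ _ i).1 (hb i hi)
    exact ModuleCat.isZero_of_subsingleton _
  obtain ⟨P, hP, ⟨eP⟩⟩ := DRingLib.exists_good_rep M
  have h2 := RelPCLib.pv_extCx β.toRingHom e.toRingEquiv.toRingHom (RelPCLib.ph_of_bijective _ he) G
    (fun i => haveI := hGf i; inferInstance) b hGb m (RelPCLib.PV.of_iso eG.symm hK)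
  haveI := DRingLib.hasLBaseChange e.toRingEquiv.toRingHom
  refine RelPCLib.PV.of_iso ?_ h2
  exact (DRingLib.lBaseChangeObjIso e.toRingEquiv.toRingHom G (DRingLib.isKFlat_of_free G b hGb hGf)).symm ≪≫
    (DRing.LBaseChange e.toRingEquiv.toRingHom).mapIso
      (eG ≪≫ (DRing.LBaseChange ι.toRingHom).mapIso eP.symm ≪≫ DRingLib.lBaseChangeObjIso ι.toRingHom P hP.1) ≪≫
    DRingLib.lBaseChangeObjIso e.toRingEquiv.toRingHom _ (KFlatLib.isKFlat_extend ι.toRingHom hP.1) ≪≫
    DerivedCategory.Q.mapIso (TwoTermLib.RelAmp.extCompIso ι.toRingHom e.toRingEquiv.toRingHom hcomp P) ≪≫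
    (DRingLib.lBaseChangeObjIso (algebraMap A A') P hP.1).symm ≪≫
    (DRing.LBaseChange (algebraMap A A')).mapIso eP

variable {X Y X' Y' S S' : Scheme.{u}}

/-- Base change along a map induced from the base, source and target being flat over it. -/
theorem rel_lpull_indep (f : X ⟶ Y) [LocallyOfFiniteType f] (f' : X' ⟶ Y') [LocallyOfFiniteType f']
    (g' : X' ⟶ X) (g : Y' ⟶ Y) (hc : IsPullback g' f' f g) (p : Y ⟶ S) [Flat p] [Flat (f ≫ p)] (s : S' ⟶ S)
    (p' : Y' ⟶ S') (hY : IsPullback g p' p s) [DCoh.HasLpull g'] (k : ℤ) {E : DCoh.D X}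
    (hq : DCoh.IsQCohD E) (hE : DerSch.IsPseudoCoherentRel f k E) :
    DerSch.IsPseudoCoherentRel f' k ((DCoh.Lpull g').obj E) := by
  refine RelPCSchLib.rel_of_points f' fun x' => ?_
  obtain ⟨T, hT, hxT, -⟩ := exists_isAffineOpen_mem_and_subset (x := g (f' x')) (U := ⊤) trivial
  obtain ⟨T', hT', hxT', eT⟩ := exists_isAffineOpen_mem_and_subset (x := f' x') (U := g ⁻¹ᵁ T) hxT
  have eT' : T' ≤ g ⁻¹ᵁ T := eT
  obtain ⟨U, hU, hxU, hUT⟩ := exists_isAffineOpen_mem_and_subset (x := g' x') (U := f ⁻¹ᵁ T)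
    (show f (g' x') ∈ T by
      rw [← Scheme.Hom.comp_apply, hc.w]
      exact hxT)
  have hUT' : U ≤ f ⁻¹ᵁ T := hUT
  obtain ⟨hU', hp⟩ := LCILocusLib.pullback_chart hc hT hT' eT' hU hUT'
  let U' := g' ⁻¹ᵁ U ⊓ f' ⁻¹ᵁ T'
  refine ⟨U', hU', T', hT', inf_le_right, ⟨hxU, hxT'⟩, ?_⟩
  obtain ⟨K, hK, hM⟩ := FppfPCLib.exists_kFlat_mod hq hU
  have h1 := FppfPCLib.isRel_of_rel f hE hU hT hUT' hM
  letI : Algebra Γ(Y, T) Γ(Y', T') := (g.appLE T T' eT').hom.toAlgebra
  letI : Algebra Γ(Y, T) Γ(X, U) := (f.appLE T U hUT').hom.toAlgebra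
  letI : Algebra Γ(Y', T') Γ(X', U') := (f'.appLE T' U' inf_le_right).hom.toAlgebra
  letI : Algebra Γ(X, U) Γ(X', U') := (g'.appLE U U' inf_le_left).hom.toAlgebra
  letI : Algebra Γ(Y, T) Γ(X', U') := (f.appLE T U hUT' ≫ g'.appLE U U' inf_le_left).hom.toAlgebra
  haveI : IsScalarTower Γ(Y, T) Γ(X, U) Γ(X', U') := IsScalarTower.of_algebraMap_eq fun _ => rfl
  haveI : IsScalarTower Γ(Y, T) Γ(Y', T') Γ(X', U') :=
    IsScalarTower.of_algebraMap_eq' (congrArg CommRingCat.Hom.hom hp.w)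
  haveI : Algebra.IsPushout Γ(Y, T) Γ(X, U) Γ(Y', T') Γ(X', U') :=
    CommRingCat.isPushout_iff_isPushout.mp hp
  haveI : Algebra.IsPushout Γ(Y, T) Γ(Y', T') Γ(X, U) Γ(X', U') := Algebra.IsPushout.symm inferInstance
  haveI : Algebra.FiniteType Γ(Y, T) Γ(X, U) := f.finiteType_appLE hT hU hUT'
  haveI := DRingLib.hasLBaseChange (algebraMap Γ(X, U) Γ(X', U'))
  have htor : ∀ q : ℕ, 0 < q → Subsingleton (DRing.Tor Γ(Y, T) q Γ(X, U) Γ(Y', T')) := fun q hq' => by
    obtain ⟨e⟩ := KunnethCxLib.nonempty_tor_symm (A := Γ(Y, T)) q Γ(Y', T') Γ(X, U)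
    haveI : Subsingleton (DRing.Tor Γ(Y, T) q Γ(Y', T') Γ(X, U)) :=
      DualFMLib.subsingleton_tor_of_flat_over_base hY f T hT T' hT' eT' U hU hUT' q hq'
    exact e.toEquiv.symm.subsingleton
  refine FppfPCLib.rpc_of_isRel f' hU' inf_le_right (FppfPCLib.mod_lpull_cx g' hU hU' inf_le_left hK hM) ?_
  obtain ⟨n, φ, hφ, hv⟩ := isRel_isPushout (A' := Γ(X', U')) htor (DRing.toD K) k h1
  exact ⟨n, φ, hφ, RelPCLib.PV.of_iso (DRingLib.lBaseChangeObjIso (algebraMap Γ(X, U) Γ(X', U')) K hK) hv⟩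

end TensorPCLib
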