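import Groth.Agent.TensorPCLib.Main
import Groth.Agent.TensorPCLib.Indep
import Groth.Agent.PerfDualLib.Dual
import Groth.Agent.KFlatLib.QCohLpull

/-!
# External derived tensor products and relative pseudo-coherence
-/

set_option autoImplicit false
set_option linter.style.haveILetI false
set_option backward.isDefEq.respectTransparency false
set_option backward.isDefEq.respectTransparency.types false
set_option maxHeartbeats 1000000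

universe u

open CategoryTheory CategoryTheory.Limits AlgebraicGeometry
open Groth.Agent
open Groth.Agent.Dual3Lib (ten ten_congr ten_comm ten_lTensor ten_unit)

attribute [local instance] HasDerivedCategory.standard

noncomputable section

namespace TensorPCLib

theorem isLE_lpull {X Y : Scheme.{u}} (f : X ⟶ Y) [DCoh.HasLpull f] (K : DCoh.D Y) (b : ℤ) [K.IsLE b] :
    ((DCoh.Lpull f).obj K).IsLE b :=
  (DerivedCategory.isLE_iff _ _).mpr fun i hi =>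
    KFlatLib.isZero_HD_lpull f K (b + 1) (fun l hl => DerivedCategory.isZero_of_isLE K b l (by omega)) i (by omega)

theorem rel_external {S X₁ Y₁ X₂ Y₂ X Y : Scheme.{u}} (f₁ : X₁ ⟶ Y₁) (q₁ : Y₁ ⟶ S)
    (f₂ : X₂ ⟶ Y₂) (q₂ : Y₂ ⟶ S) [Flat q₂] [Flat (f₂ ≫ q₂)]
    (pX₁ : X ⟶ X₁) (pX₂ : X ⟶ X₂) (hX : IsPullback pX₁ pX₂ (f₁ ≫ q₁) (f₂ ≫ q₂))
    (pY₁ : Y ⟶ Y₁) (pY₂ : Y ⟶ Y₂) (hY : IsPullback pY₁ pY₂ q₁ q₂)
    (f : X ⟶ Y) (hf₁ : f ≫ pY₁ = pX₁ ≫ f₁) (hf₂ : f ≫ pY₂ = pX₂ ≫ f₂)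
    [LocallyOfFiniteType f₁] [LocallyOfFiniteType f₂] [DCoh.HasLpull pX₁] [DCoh.HasLpull pX₂]
    (A₁ : DCoh.D X₁) (a₁ b₁ : ℤ) (hq₁ : DCoh.IsQCohD A₁) (hpc₁ : DerSch.IsPseudoCoherentRel f₁ a₁ A₁)
    [A₁.IsLE b₁] (A₂ : DCoh.D X₂) (a₂ b₂ : ℤ) (hq₂ : DCoh.IsQCohD A₂)
    (hpc₂ : DerSch.IsPseudoCoherentRel f₂ a₂ A₂) [A₂.IsLE b₂] :
    DerSch.IsPseudoCoherentRel f (max (a₁ + b₂) (a₂ + b₁))
      (ten ((DCoh.Lpull pX₂).obj A₂) ((DCoh.Lpull pX₁).obj A₁)) := by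
  let Z := pullback (f₁ ≫ q₁) q₂
  let z₁ : Z ⟶ X₁ := pullback.fst (f₁ ≫ q₁) q₂
  let z₂ : Z ⟶ Y₂ := pullback.snd (f₁ ≫ q₁) q₂
  have hZ : IsPullback z₁ z₂ (f₁ ≫ q₁) q₂ := IsPullback.of_hasPullback _ _
  haveI : Flat z₁ := MorphismProperty.of_isPullback hZ.flip inferInstance
  haveI : Flat pY₁ := MorphismProperty.of_isPullback hY.flip inferInstance
  let g : X ⟶ Z := hZ.lift pX₁ (pX₂ ≫ f₂) (by rw [Category.assoc]; exact hX.w)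
  let h : Z ⟶ Y := hY.lift (z₁ ≫ f₁) z₂ (by rw [Category.assoc]; exact hZ.w)
  have hA : IsPullback pX₂ g f₂ z₂ :=
    (IsPullback.of_right (by rw [hZ.lift_fst]; exact hX) (hZ.lift_snd _ _ _) hZ).flip
  have hB : IsPullback z₁ h f₁ pY₁ :=
    (IsPullback.of_right (by rw [hY.lift_snd]; exact hZ.flip) (hY.lift_fst _ _ _) hY.flip).flip
  have hf : g ≫ h = f := hY.hom_ext
    (by rw [Category.assoc, hY.lift_fst, ← Category.assoc, hZ.lift_fst, hf₁])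
    (by rw [Category.assoc, hY.lift_snd, hZ.lift_snd, hf₂])
  haveI : LocallyOfFiniteType g := MorphismProperty.of_isPullback hA inferInstance
  haveI : LocallyOfFiniteType h := MorphismProperty.of_isPullback hB inferInstance
  haveI := fun {S T : Scheme.{u}} (k : S ⟶ T) => KFlatLib.hasLpull k
  have hA₂ := rel_lpull_indep f₂ g pX₂ z₂ hA q₂ (f₁ ≫ q₁) z₁ hZ.flip a₂ hq₂ hpc₂
  have hQ₁ := BaseAmpLib.rel_lpull_baseChange f₁ h z₁ pY₁ hB a₁ hq₁ hpc₁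
  haveI := isLE_lpull z₁ A₁ b₁
  haveI := isLE_lpull pX₂ A₂ b₂
  have main := rel_ten_comp g h a₂ b₂ a₁ b₁ _ hA₂ _ hQ₁
  rw [hf] at main
  obtain ⟨c₁⟩ := KFlatLib.lpull_comp g z₁
  obtain ⟨c₂⟩ := nonempty_lpull_eq (hZ.lift_fst pX₁ (pX₂ ≫ f₂) (by rw [Category.assoc]; exact hX.w)) A₁
  obtain ⟨t⟩ := ten_congr (Iso.refl ((DCoh.Lpull pX₂).obj A₂)) (c₁.app A₁ ≪≫ c₂)
  exact RelPCSchLib.rel_mono (by omega) (RelPCSchLib.rel_of_iso f t main)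

/-- The form with a chosen representative of the second factor. -/
theorem rel_external_cx {S X₁ Y₁ X₂ Y₂ X Y : Scheme.{u}} (f₁ : X₁ ⟶ Y₁) (q₁ : Y₁ ⟶ S)
    (f₂ : X₂ ⟶ Y₂) (q₂ : Y₂ ⟶ S) [Flat q₂] [Flat (f₂ ≫ q₂)]
    (pX₁ : X ⟶ X₁) (pX₂ : X ⟶ X₂) (hX : IsPullback pX₁ pX₂ (f₁ ≫ q₁) (f₂ ≫ q₂))
    (pY₁ : Y ⟶ Y₁) (pY₂ : Y ⟶ Y₂) (hY : IsPullback pY₁ pY₂ q₁ q₂)
    (f : X ⟶ Y) (hf₁ : f ≫ pY₁ = pX₁ ≫ f₁) (hf₂ : f ≫ pY₂ = pX₂ ≫ f₂)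
    [LocallyOfFiniteType f₁] [LocallyOfFiniteType f₂] [DCoh.HasLpull pX₁] [DCoh.HasLpull pX₂]
    (A₁ : DCoh.D X₁) (a₁ b₁ : ℤ) (hq₁ : DCoh.IsQCohD A₁) (hpc₁ : DerSch.IsPseudoCoherentRel f₁ a₁ A₁)
    [A₁.IsLE b₁] (A₂ : DCoh.D X₂) (a₂ b₂ : ℤ) (hq₂ : DCoh.IsQCohD A₂)
    (hpc₂ : DerSch.IsPseudoCoherentRel f₂ a₂ A₂) [A₂.IsLE b₂] (K₂ : CochainComplex X.Modules ℤ)
    [DCoh.HasLTensorCx K₂] (eK : DCoh.toD X K₂ ≅ (DCoh.Lpull pX₂).obj A₂) :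
    DerSch.IsPseudoCoherentRel f (max (a₁ + b₂) (a₂ + b₁)) ((DCoh.LTensorCx K₂).obj ((DCoh.Lpull pX₁).obj A₁)) ∧
      ((DCoh.LTensorCx K₂).obj ((DCoh.Lpull pX₁).obj A₁)).IsLE (b₁ + b₂) := by
  obtain ⟨e₁⟩ := ten_lTensor (A := (DCoh.Lpull pX₁).obj A₁) K₂ eK
  haveI := isLE_lpull pX₁ A₁ b₁
  haveI := isLE_lpull pX₂ A₂ b₂
  obtain ⟨e₂⟩ := ten_comm ((DCoh.Lpull pX₁).obj A₁) ((DCoh.Lpull pX₂).obj A₂)
  haveI : LocallyOfFiniteType f :=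
    (rel_external f₁ q₁ f₂ q₂ pX₁ pX₂ hX pY₁ pY₂ hY f hf₁ hf₂ A₁ a₁ b₁ hq₁ hpc₁ A₂ a₂ b₂ hq₂ hpc₂).1
  refine ⟨RelPCSchLib.rel_of_iso f (e₁ ≪≫ e₂).symm
    (rel_external f₁ q₁ f₂ q₂ pX₁ pX₂ hX pY₁ pY₂ hY f hf₁ hf₂ A₁ a₁ b₁ hq₁ hpc₁ A₂ a₂ b₂ hq₂ hpc₂),
    (DerivedCategory.isLE_iff _ _).mpr fun i hi => ?_⟩
  exact (isZero_ten ((DCoh.Lpull pX₁).obj A₁) ((DCoh.Lpull pX₂).obj A₂) b₁ b₂ i hi).of_iso
    ((DerivedCategory.homologyFunctor _ i).mapIso e₁)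

theorem isQCohD_unit (X : Scheme.{u}) : DCoh.IsQCohD (DCoh.toD X (DerSch.unitCx X)) := fun i =>
  @QCohLib.isQCoh_of_iso _ _ _ (KFlatLib.hdToD _ i).symm
    (KFlatLib.isQCoh_homology_of_terms _ (fun n => by
      by_cases hn : n = 0
      · subst hn
        exact @QCohLib.isQCoh_of_iso _ _ _ (HomologicalComplex.singleObjXSelf (ComplexShape.up ℤ) 0 (Coh.structureModule X)).symm QCohLib.isQCoh_unit
      · exact KFlatLib.isQCoh_zero (HomologicalComplex.isZero_single_obj_X _ _ _ _ hn)) i)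

/-- `Lf^* O ≅ O`. -/
theorem nonempty_lpull_unit {X Y : Scheme.{u}} (f : X ⟶ Y) [DCoh.HasLpull f] :
    Nonempty ((DCoh.Lpull f).obj (DCoh.toD Y (DerSch.unitCx Y)) ≅ DCoh.toD X (DerSch.unitCx X)) :=
  ⟨KFlatLib.lpullObjIso f _ (KFlatLib.isKFlat_of_isStrictlyPerfect (PerfDualLib.isStrictlyPerfect_unitCx Y)) ≪≫
    DerivedCategory.Q.mapIso
      ((HomologicalComplex.singleMapHomologicalComplex (Scheme.Modules.pullback f) (ComplexShape.up ℤ) 0).app _ ≪≫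
        (HomologicalComplex.single X.Modules (ComplexShape.up ℤ) 0).mapIso (KFlatLib.pullUnitIso f))⟩

/-- A fibre product of pseudo-coherent morphisms. -/
theorem nPC_external {S X₁ Y₁ X₂ Y₂ X Y : Scheme.{u}} (f₁ : X₁ ⟶ Y₁) (q₁ : Y₁ ⟶ S)
    (f₂ : X₂ ⟶ Y₂) (q₂ : Y₂ ⟶ S) [Flat q₂] [Flat (f₂ ≫ q₂)]
    (pX₁ : X ⟶ X₁) (pX₂ : X ⟶ X₂) (hX : IsPullback pX₁ pX₂ (f₁ ≫ q₁) (f₂ ≫ q₂))
    (pY₁ : Y ⟶ Y₁) (pY₂ : Y ⟶ Y₂) (hY : IsPullback pY₁ pY₂ q₁ q₂)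
    (f : X ⟶ Y) (hf₁ : f ≫ pY₁ = pX₁ ≫ f₁) (hf₂ : f ≫ pY₂ = pX₂ ≫ f₂)
    [LocallyOfFiniteType f₁] [LocallyOfFiniteType f₂] (n : ℤ)
    (h₁ : DerSch.IsNPseudoCoherent f₁ n) (h₂ : DerSch.IsNPseudoCoherent f₂ n) :
    DerSch.IsNPseudoCoherent f n := by
  haveI := fun {S T : Scheme.{u}} (k : S ⟶ T) => KFlatLib.hasLpull k
  have hle : ∀ W : Scheme.{u}, (DCoh.toD W (DerSch.unitCx W)).IsLE 0 := fun W =>
    (DerivedCategory.isLE_iff _ _).mpr fun i hi => RelPCSchLib.isZero_HD_unitCx W i hi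
  haveI := hle X₁
  haveI := hle X₂
  obtain ⟨u₁⟩ := nonempty_lpull_unit pX₁
  obtain ⟨u₂⟩ := nonempty_lpull_unit pX₂
  obtain ⟨t⟩ := ten_congr u₂ u₁
  obtain ⟨v⟩ := ten_unit (DCoh.toD X (DerSch.unitCx X))
  have main := rel_external f₁ q₁ f₂ q₂ pX₁ pX₂ hX pY₁ pY₂ hY f hf₁ hf₂
    (DCoh.toD X₁ (DerSch.unitCx X₁)) n 0 (isQCohD_unit X₁) h₁ (DCoh.toD X₂ (DerSch.unitCx X₂)) n 0
    (isQCohD_unit X₂) h₂
  haveI := main.1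
  exact RelPCSchLib.rel_mono (by omega) (RelPCSchLib.rel_of_iso f (t ≪≫ v) main)

end TensorPCLib
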