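import Groth.Agent.CycKSuppLib.Killed
import Groth.Agent.ProjClosedImmLib.Main
import Groth.Agent.RpushLib.BCMap
import Groth.Agent.QCohLib.Push
import Groth.Agent.FMKLib.PullDual
import Groth.Agent.ImmPCLib.Basic

/-!
# Inverse images of direct images along closed immersions
-/

set_option autoImplicit false
set_option linter.style.haveILetI false
set_option backward.isDefEq.respectTransparency false
set_option backward.isDefEq.respectTransparency.types false
set_option maxHeartbeats 1000000

universe u

open CategoryTheory CategoryTheory.Limits AlgebraicGeometry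
open Groth.Agent
open Groth.Agent.ImmPCLib (pushD lim_push colim_push)

attribute [local instance] HasDerivedCategory.standard
attribute [local instance] lim_push colim_push

noncomputable section

namespace TensorPCLib

variable {X' X S' S : Scheme.{u}} {g' : X' ⟶ X} {f' : X' ⟶ S'} {f : X ⟶ S} {g : S' ⟶ S}

/-- A direct image along a closed immersion is its own `i_* i^*`. -/
theorem isIso_unit_of_iso (i : X ⟶ S) [IsClosedImmersion i] {N : S.Modules} {K : X.Modules}
    (e : N ≅ (Scheme.Modules.pushforward i).obj K) :
    IsIso ((Scheme.Modules.pullbackPushforwardAdjunction i).unit.app N) := by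
  let adj := Scheme.Modules.pullbackPushforwardAdjunction i
  haveI := CycKSuppLib.isIso_counit i K
  haveI : IsIso (adj.unit.app ((Scheme.Modules.pushforward i).obj K)) :=
    IsIso.of_isIso_fac_right (adj.right_triangle_components K)
  exact (NatTrans.isIso_app_iff_of_iso adj.unit e).2 inferInstance

/-- `i_* M ≅ i_* O ⊗ i_* M`. -/
def pushTensUnitIso (i : X ⟶ S) [IsClosedImmersion i] (M : X.Modules) :
    KFlatLib.tens ((Scheme.Modules.pushforward i).obj (Coh.structureModule X))
        ((Scheme.Modules.pushforward i).obj M) ≅ (Scheme.Modules.pushforward i).obj M :=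
  asIso (ProjClosedImmLib.projR i (Coh.structureModule X) ((Scheme.Modules.pushforward i).obj M)) ≪≫
    (Scheme.Modules.pushforward i).mapIso (KFlatLib.tensUnitIso _ ≪≫ CycKSuppLib.pullPushIso i M)

theorem isQCoh_structureModule' (Y : Scheme.{u}) : Coh.IsQCoh (Coh.structureModule Y) := QCohLib.isQCoh_unit

theorem exists_iso_push (H : IsPullback g' f' f g) [IsClosedImmersion f] [IsClosedImmersion f'] (M : X.Modules) :
    ∃ K : X'.Modules, Nonempty ((Scheme.Modules.pullback g).obj ((Scheme.Modules.pushforward f).obj M) ≅
      (Scheme.Modules.pushforward f').obj K) := by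
  let O := Coh.structureModule X
  haveI : Coh.IsQCoh O := isQCoh_structureModule' X
  haveI : Coh.IsQCoh ((Scheme.Modules.pushforward f).obj O) := QCohLib.isQCoh_pushforward f O
  have hbc := RpushLib.isIso_bcMap_of H O fun US UT hUS hUT hg => RpushLib.bijective_bc_affine H O hUS hUT hg
  let ε : (Scheme.Modules.pullback g).obj ((Scheme.Modules.pushforward f).obj O) ≅
      (Scheme.Modules.pushforward f').obj ((Scheme.Modules.pullback g').obj O) := @asIso _ _ _ _ _ hbc
  let N := (Scheme.Modules.pullback g).obj ((Scheme.Modules.pushforward f).obj M)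
  exact ⟨_, ⟨(Scheme.Modules.pullback g).mapIso (pushTensUnitIso f M).symm ≪≫
    asIso (KFlatLib.pullθ g ((Scheme.Modules.pushforward f).obj O) ((Scheme.Modules.pushforward f).obj M)) ≪≫
    ((DCoh.tensorBi (X := S')).flip.obj N).mapIso ε ≪≫
    asIso (ProjClosedImmLib.projR f' ((Scheme.Modules.pullback g').obj O) N)⟩⟩

/-- Inverse image commutes with direct image along a closed immersion. -/
def pullPushBC (H : IsPullback g' f' f g) [IsClosedImmersion f] [IsClosedImmersion f'] :
    Scheme.Modules.pushforward f ⋙ Scheme.Modules.pullback g ≅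
      Scheme.Modules.pullback g' ⋙ Scheme.Modules.pushforward f' :=
  NatIso.ofComponents
    (fun M =>
      haveI : IsIso ((Scheme.Modules.pullbackPushforwardAdjunction f').unit.app
          ((Scheme.Modules.pullback g).obj ((Scheme.Modules.pushforward f).obj M))) := by
        obtain ⟨K, ⟨e⟩⟩ := exists_iso_push H M
        exact isIso_unit_of_iso f' e
      asIso ((Scheme.Modules.pullbackPushforwardAdjunction f').unit.app
          ((Scheme.Modules.pullback g).obj ((Scheme.Modules.pushforward f).obj M))) ≪≫
        (Scheme.Modules.pushforward f').mapIso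
          ((Scheme.Modules.pullbackComp f' g ≪≫ Scheme.Modules.pullbackCongr H.w.symm ≪≫
            (Scheme.Modules.pullbackComp g' f).symm).app ((Scheme.Modules.pushforward f).obj M) ≪≫
            (Scheme.Modules.pullback g').mapIso (CycKSuppLib.pullPushIso f M)))
    (fun {M N} φ => by
      let adj := Scheme.Modules.pullbackPushforwardAdjunction f'
      let c := Scheme.Modules.pullbackComp f' g ≪≫ Scheme.Modules.pullbackCongr H.w.symm ≪≫
        (Scheme.Modules.pullbackComp g' f).symm
      let ν : Scheme.Modules.pushforward f ⋙ Scheme.Modules.pullback g ⋙ Scheme.Modules.pullback f' ⟶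
          Scheme.Modules.pullback g' :=
        Functor.whiskerLeft (Scheme.Modules.pushforward f) c.hom ≫
          Functor.whiskerRight (Scheme.Modules.pullbackPushforwardAdjunction f).counit (Scheme.Modules.pullback g')
      change (Scheme.Modules.pullback g).map ((Scheme.Modules.pushforward f).map φ) ≫
          adj.unit.app _ ≫ (Scheme.Modules.pushforward f').map (ν.app N) =
        (adj.unit.app _ ≫ (Scheme.Modules.pushforward f').map (ν.app M)) ≫
          (Scheme.Modules.pushforward f').map ((Scheme.Modules.pullback g').map φ)
      rw [Category.assoc, ← Functor.map_comp, ← ν.naturality φ, Functor.map_comp]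
      exact adj.unit.naturality_assoc _ _)

/-- Flat inverse image commutes with direct image along a closed immersion, in the derived category. -/
theorem nonempty_lpull_pushD (H : IsPullback g' f' f g) [IsClosedImmersion f] [IsClosedImmersion f'] [Flat g]
    [Flat g'] [DCoh.HasLpull g] [DCoh.HasLpull g'] (E : DCoh.D X) :
    Nonempty ((DCoh.Lpull g).obj ((pushD f).obj E) ≅ (pushD f').obj ((DCoh.Lpull g').obj E)) := by
  let C := DerivedCategory.Q.objPreimage E
  let e := DerivedCategory.Q.objObjPreimageIso E
  obtain ⟨a⟩ := FMKLib.nonempty_lpull_flat g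
    (((Scheme.Modules.pushforward f).mapHomologicalComplex (ComplexShape.up ℤ)).obj C)
  obtain ⟨b⟩ := FMKLib.nonempty_lpull_flat g' C
  exact ⟨(DCoh.Lpull g).mapIso ((pushD f).mapIso e.symm ≪≫
      (Scheme.Modules.pushforward f).mapDerivedCategoryFactors.app C) ≪≫ a ≪≫
    DerivedCategory.Q.mapIso ((NatIso.mapHomologicalComplex (pullPushBC H) (ComplexShape.up ℤ)).app C) ≪≫
    ((Scheme.Modules.pushforward f').mapDerivedCategoryFactors.app
      (((Scheme.Modules.pullback g').mapHomologicalComplex (ComplexShape.up ℤ)).obj C)).symm ≪≫
    (pushD f').mapIso (b.symm ≪≫ (DCoh.Lpull g').mapIso e)⟩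

end TensorPCLib
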