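import Groth.Agent.TensorPCLib.Push
import Groth.Agent.TensorPCLib.BC
import Groth.Agent.RelPCSchLib.Main
import Groth.Agent.RelPCSchLib.Desc
import Groth.Agent.RelPCSchLib.Square
import Groth.Agent.PerfBaseLib.FlatProper
import Groth.Agent.KFlatLib.LpullComp
import Mathlib.AlgebraicGeometry.Morphisms.Flat
import Mathlib.RingTheory.TensorProduct.MvPolynomial

/-!
# Derived tensor products and relative pseudo-coherence of composites
-/

set_option autoImplicit false
set_option linter.style.haveILetI false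
set_option backward.isDefEq.respectTransparency false
set_option backward.isDefEq.respectTransparency.types false
set_option maxHeartbeats 1000000

universe u

open CategoryTheory CategoryTheory.Limits AlgebraicGeometry Opposite
open Groth.Agent
open Groth.Agent.Dual3Lib (ten ten_congr ten_comm ten_restrict ten_lTensor)
open Groth.Agent.PerfLib (resD res resC resDQIso isPC_of_iso)
open Groth.Agent.ImmPCLib (pushD lim_push colim_push)
open Groth.Agent.RelPCSchLib (imm isClosedImmersion_imm CPC)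

attribute [local instance] HasDerivedCategory.standard
attribute [local instance] lim_push colim_push

noncomputable section

namespace TensorPCLib

/-- The square of a polynomial extension. -/
theorem isPullback_mvPoly {A B : Type u} [CommRing A] [CommRing B] (χ : A →+* B) (n : ℕ) :
    IsPullback (Spec.map (CommRingCat.ofHom (MvPolynomial.C : B →+* MvPolynomial (Fin n) B)))
      (Spec.map (CommRingCat.ofHom (MvPolynomial.map χ : MvPolynomial (Fin n) A →+* MvPolynomial (Fin n) B)))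
      (Spec.map (CommRingCat.ofHom χ))
      (Spec.map (CommRingCat.ofHom (MvPolynomial.C : A →+* MvPolynomial (Fin n) A))) := by
  letI : Algebra A B := χ.toAlgebra
  letI : Algebra (MvPolynomial (Fin n) A) (MvPolynomial (Fin n) B) := MvPolynomial.algebraMvPolynomial
  haveI : Algebra.IsPushout A B (MvPolynomial (Fin n) A) (MvPolynomial (Fin n) B) := inferInstance
  exact isPullback_SpecMap_of_isPushout _ _ _ _
    (CommRingCat.isPushout_iff_isPushout.mpr ‹Algebra.IsPushout A B (MvPolynomial (Fin n) A) (MvPolynomial (Fin n) B)›)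

theorem flat_specC (A : Type u) [CommRing A] (n : ℕ) :
    Flat (Spec.map (CommRingCat.ofHom (MvPolynomial.C : A →+* MvPolynomial (Fin n) A))) :=
  (HasRingHomProperty.Spec_iff (P := @Flat)).2
    (RingHom.flat_algebraMap_iff.2 (inferInstance : Module.Flat A (MvPolynomial (Fin n) A)))

variable {X Y Z : Scheme.{u}} (f : X ⟶ Y) (g : Y ⟶ Z)

omit f g in
theorem nonempty_lpull_eq {f f' : X ⟶ Y} (h : f = f') [DCoh.HasLpull f] [DCoh.HasLpull f'] (E : DCoh.D Y) :
    Nonempty ((DCoh.Lpull f).obj E ≅ (DCoh.Lpull f').obj E) := by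
  subst h
  exact ⟨Iso.refl _⟩

theorem rel_ten_comp [LocallyOfFiniteType f] [LocallyOfFiniteType g] (a b c d : ℤ) (A : DCoh.D X)
    (hA : DerSch.IsPseudoCoherentRel f a A) [A.IsLE b] (F : DCoh.D Y)
    (hF : DerSch.IsPseudoCoherentRel g c F) [F.IsLE d] [DCoh.HasLpull f] :
    DerSch.IsPseudoCoherentRel (f ≫ g) (max (a + d) (b + c)) (ten A ((DCoh.Lpull f).obj F)) := by
  refine RelPCSchLib.rel_of_points (f ≫ g) fun x => ?_
  obtain ⟨W, hW, hxW, -⟩ := exists_isAffineOpen_mem_and_subset (x := g (f x)) (U := ⊤) trivial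
  obtain ⟨V, hV, hxV, hVW⟩ := exists_isAffineOpen_mem_and_subset (x := f x) (U := g ⁻¹ᵁ W) hxW
  obtain ⟨U, hU, hxU, hUV⟩ := exists_isAffineOpen_mem_and_subset (x := x) (U := f ⁻¹ᵁ V) hxV
  have hVW' : V ≤ g ⁻¹ᵁ W := hVW
  have hUV' : U ≤ f ⁻¹ᵁ V := hUV
  have hUW : U ≤ (f ≫ g) ⁻¹ᵁ W := fun y hy => hVW (hUV hy)
  refine ⟨U, hU, W, hW, hUW, hxU, ?_⟩
  obtain ⟨p, χ, hχ⟩ := RelPCSchLib.exists_isChart g hV hW hVW'
  obtain ⟨n, φ, hφ⟩ := RelPCSchLib.exists_isChart f hU hV hUV'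
  haveI : IsIso V.toSpecΓ := hV.isoSpec_hom ▸ inferInstance
  let j := imm V χ
  let i := imm U φ
  let q := Spec.map (CommRingCat.ofHom
    (MvPolynomial.C : MvPolynomial (Fin p) Γ(Z, W) →+* MvPolynomial (Fin n) (MvPolynomial (Fin p) Γ(Z, W))))
  let π := Spec.map (CommRingCat.ofHom (MvPolynomial.C : Γ(Y, V) →+* MvPolynomial (Fin n) Γ(Y, V))) ≫
    inv V.toSpecΓ
  let j' := Spec.map (CommRingCat.ofHom (MvPolynomial.map χ :
    MvPolynomial (Fin n) (MvPolynomial (Fin p) Γ(Z, W)) →+* MvPolynomial (Fin n) Γ(Y, V)))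
  haveI : IsClosedImmersion j := isClosedImmersion_imm hV hχ.1
  haveI : IsClosedImmersion i := isClosedImmersion_imm hU hφ.1
  haveI : IsClosedImmersion j' := IsClosedImmersion.spec_of_surjective _ (MvPolynomial.map_surjective χ hχ.1)
  haveI : Flat q := flat_specC _ n
  haveI := flat_specC Γ(Y, V) n
  haveI : Flat π := inferInstanceAs (Flat (_ ≫ _))
  have H : IsPullback π j' j q := by
    refine (isPullback_mvPoly χ n).of_iso (Iso.refl _) (asIso V.toSpecΓ).symm (Iso.refl _) (Iso.refl _)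
      ?_ ?_ ?_ ?_
    · simp [π]
    · simp [j']
    · simp [j, imm]
    · simp [q]
  haveI := fun {S T : Scheme.{u}} (k : S ⟶ T) => KFlatLib.hasLpull k
  let F' := (resD V.ι).obj F
  haveI : F'.IsLE d := isLE_resD _ F d
  let G := (DCoh.Lpull π).obj F'
  haveI : G.IsLE d := (DerivedCategory.isLE_iff _ _).mpr fun k hk =>
    KFlatLib.isZero_HD_lpull π F' (d + 1) (fun l hl => DerivedCategory.isZero_of_isLE F' d l (by omega)) k
      (by omega)
  let A' := (resD U.ι).obj A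
  haveI : A'.IsLE b := isLE_resD _ A b
  haveI : ((pushD i).obj A').IsLE b := isLE_pushD i A' b
  have hG : DCoh.IsPseudoCoherentD c ((pushD j').obj G) := by
    obtain ⟨e⟩ := nonempty_lpull_pushD H F'
    exact isPC_of_iso e (KFlatLib.isPseudoCoherent_lpull q c _
      (RelPCSchLib.isPC_of_rel g hF hV hW hVW' χ hχ))
  have hfin := isPC_push_ten j' ((pushD i).obj A') G a b c d (RelPCSchLib.isPC_of_rel f hA hU hV hUV' φ hφ) hG
  have hpi : i ≫ π = f.resLE V U hUV' := by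
    have h2 : Spec.map (CommRingCat.ofHom φ) ≫
        Spec.map (CommRingCat.ofHom (MvPolynomial.C : Γ(Y, V) →+* MvPolynomial (Fin n) Γ(Y, V))) =
          Spec.map (f.appLE V U hUV') := by
      rw [← Spec.map_comp, ← CommRingCat.ofHom_comp, hφ.2]
      rfl
    calc i ≫ π = U.toSpecΓ ≫ (Spec.map (CommRingCat.ofHom φ) ≫
          Spec.map (CommRingCat.ofHom (MvPolynomial.C : Γ(Y, V) →+* MvPolynomial (Fin n) Γ(Y, V)))) ≫
            inv V.toSpecΓ := by simp [i, π, imm]
      _ = _ := by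
        rw [h2, ← Category.assoc, IsIso.comp_inv_eq, Scheme.Opens.toSpecΓ_SpecMap_appLE]
  obtain ⟨e₁⟩ := PerfBaseLib.nonempty_lpull_restrictD (U := (U : Scheme.{u})) U ((DCoh.Lpull f).obj F)
  obtain ⟨e₂⟩ := PerfBaseLib.nonempty_lpull_restrictD (U := (V : Scheme.{u})) V F
  obtain ⟨c₁⟩ := KFlatLib.lpull_comp U.ι f
  obtain ⟨c₂⟩ := KFlatLib.lpull_comp (i ≫ π) V.ι
  obtain ⟨c₃⟩ := KFlatLib.lpull_comp i π
  obtain ⟨c₄⟩ := nonempty_lpull_eq (E := F) (show (i ≫ π) ≫ V.ι = U.ι ≫ f by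
    rw [hpi, Scheme.Hom.resLE_comp_ι])
  let eF : (DCoh.Lpull i).obj G ≅ (resD U.ι).obj ((DCoh.Lpull f).obj F) :=
    (DCoh.Lpull i).mapIso ((DCoh.Lpull π).mapIso e₂.symm) ≪≫ c₃.app _ ≪≫ c₂.app F ≪≫ c₄ ≪≫ (c₁.app F).symm ≪≫ e₁
  obtain ⟨r⟩ := ten_restrict U A ((DCoh.Lpull f).obj F)
  obtain ⟨t⟩ := ten_congr (Iso.refl A') eF
  obtain ⟨pf⟩ := nonempty_push_ten i A' G
  let e := (MvPolynomial.renameEquiv Γ(Z, W) (finSumFinEquiv (m := n) (n := p))).symm.trans
    (MvPolynomial.sumAlgEquiv Γ(Z, W) (Fin n) (Fin p))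
  let ψ : MvPolynomial (Fin n) (MvPolynomial (Fin p) Γ(Z, W)) →+* Γ(X, U) := φ.comp (MvPolynomial.map χ)
  have hψ : Function.Surjective ψ := hφ.1.comp (MvPolynomial.map_surjective χ hχ.1)
  have hcpc : CPC (max (a + d) (b + c)) (ten A ((DCoh.Lpull f).obj F)) U ψ := by
    intro hi
    have heq : imm U ψ = i ≫ j' := by
      simp only [imm, i, j', ψ, CommRingCat.ofHom_comp, Spec.map_comp, Category.assoc]
    obtain ⟨c₅⟩ := RelPCSchLib.nonempty_push_congr heq ((resD U.ι).obj (ten A ((DCoh.Lpull f).obj F)))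
    obtain ⟨c₆⟩ := RelPCSchLib.nonempty_push_comp i j' ((resD U.ι).obj (ten A ((DCoh.Lpull f).obj F)))
    exact isPC_of_iso ((pushD j').mapIso (pf.symm ≪≫ (pushD i).mapIso (t ≪≫ r.symm)) ≪≫ c₆ ≪≫ c₅.symm) hfin
  have he : Function.Bijective e.toRingEquiv.toRingHom := e.bijective
  refine RelPCSchLib.rpc_of_cpc (f ≫ g) hU (ψ.comp e.toRingEquiv.toRingHom) (hψ.comp e.surjective) ?_
    ((RelPCSchLib.cpc_comp he.2 (RelPCLib.ph_of_bijective _ he) hU hψ _ _).2 hcpc)
  refine RingHom.ext fun r => ?_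
  change φ (MvPolynomial.map χ (e (MvPolynomial.C r))) = _
  rw [show e (MvPolynomial.C r) = MvPolynomial.C (MvPolynomial.C r) from e.commutes r, MvPolynomial.map_C]
  refine (RingHom.congr_fun hφ.2 _).trans ?_
  rw [show χ (MvPolynomial.C r) = g.appLE W V hVW' r from RingHom.congr_fun hχ.2 r,
    ← Scheme.Hom.appLE_comp_appLE f g W V U hVW' hUV']
  rfl

/-- `E ⊗ Lf^* F` relative to a composite. -/
theorem rel_ltensor_lpull (h : X ⟶ Z) (w : f ≫ g = h) [LocallyOfFiniteType f] [LocallyOfFiniteType g]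
    (a b c d : ℤ) (E : CochainComplex X.Modules ℤ) (hE : DerSch.IsPseudoCoherentRel f a (DCoh.toD X E))
    [(DCoh.toD X E).IsLE b] (F : DCoh.D Y) (hF : DerSch.IsPseudoCoherentRel g c F) [F.IsLE d]
    [DCoh.HasLpull f] [DCoh.HasLTensorCx E] :
    DerSch.IsPseudoCoherentRel h (max (a + d) (b + c)) ((DCoh.LTensorCx E).obj ((DCoh.Lpull f).obj F)) ∧
      ((DCoh.LTensorCx E).obj ((DCoh.Lpull f).obj F)).IsLE (b + d) := by
  subst w
  obtain ⟨e₁⟩ := ten_lTensor (A := (DCoh.Lpull f).obj F) E (Iso.refl (DCoh.toD X E))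
  obtain ⟨e₂⟩ := ten_comm ((DCoh.Lpull f).obj F) (DCoh.toD X E)
  haveI : ((DCoh.Lpull f).obj F).IsLE d := (DerivedCategory.isLE_iff _ _).mpr fun k hk =>
    KFlatLib.isZero_HD_lpull f F (d + 1) (fun l hl => DerivedCategory.isZero_of_isLE F d l (by omega)) k
      (by omega)
  refine ⟨RelPCSchLib.rel_of_iso _ (e₁ ≪≫ e₂).symm (rel_ten_comp f g a b c d (DCoh.toD X E) hE F hF),
    (DerivedCategory.isLE_iff _ _).mpr fun k hk => ?_⟩
  exact (isZero_ten (DCoh.toD X E) ((DCoh.Lpull f).obj F) b d k hk).of_iso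
    ((DerivedCategory.homologyFunctor _ k).mapIso (e₁ ≪≫ e₂))

end TensorPCLib
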