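import Groth.Agent.Dual3Lib.Ten
import Groth.Agent.KFlatLib.PCohPull
import Groth.Agent.PerfLib.PCohSummand
import Groth.Agent.PerfBaseLib.SplitSheaf
import Groth.Agent.RelFlatLib.Absolute

/-!
# Derived tensor products of pseudo-coherent objects
-/

set_option autoImplicit false
set_option linter.style.haveILetI false
set_option backward.isDefEq.respectTransparency false
set_option backward.isDefEq.respectTransparency.types false
set_option maxHeartbeats 1000000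

universe u

open CategoryTheory CategoryTheory.Limits CategoryTheory.Pretriangulated AlgebraicGeometry
open Groth.Agent
open Groth.Agent.Dual3Lib (rep rep_kFlat repIso ten ten_cx ten_congr ten_comm ten_restrict ten_isPerfect ten_lTensor)
open Groth.Agent.PerfLib (resD res resC resDQIso isPC_of_iso IAE)

attribute [local instance] HasDerivedCategory.standard

noncomputable section

namespace TensorPCLib

variable {X : Scheme.{u}}

theorem exists_tri_left {T : Triangle (DCoh.D X)} (hT : T ∈ distinguishedTriangles) (B : DCoh.D X) :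
    ∃ T' : Triangle (DCoh.D X), T' ∈ distinguishedTriangles ∧ Nonempty (T'.obj₁ ≅ ten T.obj₁ B) ∧
      Nonempty (T'.obj₂ ≅ ten T.obj₂ B) ∧ Nonempty (T'.obj₃ ≅ ten T.obj₃ B) := by
  obtain ⟨T', hT', e⟩ := (KFlatLib.tensorTriFun (rep B)).tri T hT
  exact ⟨T', hT', e⟩

theorem exists_tri_right {T : Triangle (DCoh.D X)} (hT : T ∈ distinguishedTriangles) (A : DCoh.D X) :
    ∃ T' : Triangle (DCoh.D X), T' ∈ distinguishedTriangles ∧ Nonempty (T'.obj₁ ≅ ten A T.obj₁) ∧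
      Nonempty (T'.obj₂ ≅ ten A T.obj₂) ∧ Nonempty (T'.obj₃ ≅ ten A T.obj₃) := by
  obtain ⟨T', hT', ⟨e₁⟩, ⟨e₂⟩, ⟨e₃⟩⟩ := exists_tri_left hT A
  obtain ⟨c₁⟩ := ten_comm T.obj₁ A
  obtain ⟨c₂⟩ := ten_comm T.obj₂ A
  obtain ⟨c₃⟩ := ten_comm T.obj₃ A
  exact ⟨T', hT', ⟨e₁ ≪≫ c₁⟩, ⟨e₂ ≪≫ c₂⟩, ⟨e₃ ≪≫ c₃⟩⟩

theorem isZero_ten (A B : DCoh.D X) (n n' : ℤ) [A.IsLE n] [B.IsLE n'] (i : ℤ) (hi : n + n' < i) :
    IsZero (DCoh.HD (ten A B) i) := by
  obtain ⟨P, hPb, hP, ⟨eP⟩⟩ := KFlatLib.exists_flat_rep_of_isLE A n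
  obtain ⟨L, hLb, hL, ⟨eL⟩⟩ := KFlatLib.exists_flat_rep_of_isLE B n'
  obtain ⟨e⟩ := ten_cx P L hP eP eL
  refine IsZero.of_iso ?_ ((DerivedCategory.homologyFunctor X.Modules i).mapIso e ≪≫ KFlatLib.hdToD _ i)
  refine (HomologicalComplex.exactAt_iff_isZero_homology _ _).mp (ShortComplex.exact_of_isZero_X₂ _ ?_)
  refine (IsZero.iff_id_eq_zero _).mpr (HomologicalComplex.mapBifunctor.hom_ext fun p q hpq => ?_)
  change p + q = i at hpq
  by_cases hp : n < p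
  · exact (((DCoh.tensorBi (X := X)).flip.obj _).map_isZero (hPb p hp)).eq_of_src _ _
  · exact (((DCoh.tensorBi (X := X)).obj _).map_isZero (hLb q (by omega))).eq_of_src _ _

theorem isLE_ten (A B : DCoh.D X) (n n' : ℤ) [A.IsLE n] [B.IsLE n'] : (ten A B).IsLE (n + n') :=
  (DerivedCategory.isLE_iff _ _).mpr fun i hi => isZero_ten A B n n' i hi

/-- The cone of a model. -/
theorem exists_cone {A K : DCoh.D X} (α : A ⟶ K) {m b : ℤ} (hα : IAE α m) [K.IsLE b] (hmb : m ≤ b) :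
    ∃ T : Triangle (DCoh.D X), T ∈ distinguishedTriangles ∧ Nonempty (T.obj₁ ≅ A) ∧
      Nonempty (T.obj₂ ≅ K) ∧ T.obj₃.IsLE (m - 1) ∧ T.obj₁.IsLE b := by
  obtain ⟨C, g, h, hT⟩ := distinguished_cocone_triangle α
  refine ⟨Triangle.mk α g h, hT, ⟨Iso.refl _⟩, ⟨Iso.refl _⟩,
    (DerivedCategory.isLE_iff _ _).mpr fun i hi =>
      (KFlatLib.isoAboveEpiAt_iff _ hT m).mp ⟨hα.1, hα.2⟩ i (by omega),
    (DerivedCategory.isLE_iff _ _).mpr fun i hi => ?_⟩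
  haveI := hα.1 i (lt_of_le_of_lt hmb hi)
  exact (DerivedCategory.isZero_of_isLE K b i hi).of_iso
    (asIso ((DerivedCategory.homologyFunctor X.Modules i).map α))

theorem isPC_ten_of_models {n n' b b' : ℤ} (A B : DCoh.D X) (E E' : CochainComplex X.Modules ℤ)
    (hE : DCoh.IsStrictlyPerfect E) (hE' : DCoh.IsStrictlyPerfect E') (α : DCoh.toD X E ⟶ A)
    (α' : DCoh.toD X E' ⟶ B) (hα : IAE α n) (hα' : IAE α' n') [A.IsLE b] [B.IsLE b'] (hn : n ≤ b)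
    (hn' : n' ≤ b') : DCoh.IsPseudoCoherentD (max (n + b') (b + n')) (ten A B) := by
  obtain ⟨T, hT, ⟨a₁⟩, ⟨a₂⟩, hC, hEb⟩ := exists_cone α hα hn
  obtain ⟨T', hT', ⟨c₁⟩, ⟨c₂⟩, hC', hE'b⟩ := exists_cone α' hα' hn'
  obtain ⟨S, hS, ⟨s₁⟩, ⟨s₂⟩, ⟨s₃⟩⟩ := exists_tri_right hT' T.obj₁
  obtain ⟨R, hR, ⟨r₁⟩, ⟨r₂⟩, ⟨r₃⟩⟩ := exists_tri_left hT B
  obtain ⟨p⟩ := ten_congr a₁ c₁
  obtain ⟨q⟩ := ten_congr (Iso.refl T.obj₁) c₂
  obtain ⟨r⟩ := ten_congr a₂ (Iso.refl B)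
  have h1 : DCoh.IsPseudoCoherentD (max (n + b') (b + n')) (ten T.obj₁ B) :=
    isPC_of_iso (s₂ ≪≫ q) (Groth.Agent.PerfLib.isPC_obj₂ S hS _
      (isPC_of_iso (s₁ ≪≫ p).symm (RelFlatLib.isPC_of_isPerfect (ten_isPerfect
        (PerfBaseLib.isPerfect_of_strictlyPerfect hE) (PerfBaseLib.isPerfect_of_strictlyPerfect hE')) _))
      (isPC_of_iso s₃.symm (Groth.Agent.PerfLib.isPC_of_isZero_above fun i hi =>
        isZero_ten T.obj₁ T'.obj₃ b (n' - 1) i (by omega))))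
  exact isPC_of_iso (r₂ ≪≫ r) (Groth.Agent.PerfLib.isPC_obj₂ R hR _ (isPC_of_iso r₁.symm h1)
    (isPC_of_iso r₃.symm (Groth.Agent.PerfLib.isPC_of_isZero_above fun i hi =>
      isZero_ten T.obj₃ B (n - 1) b' i (by omega))))

theorem isLE_resD {V : Scheme.{u}} (j : V ⟶ X) [IsOpenImmersion j] (K : DCoh.D X) (b : ℤ) [K.IsLE b] :
    ((resD j).obj K).IsLE b :=
  (DerivedCategory.isLE_iff _ _).mpr fun i hi =>
    ((res j).map_isZero (DerivedCategory.isZero_of_isLE K b i hi)).of_iso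
      (Groth.Agent.PerfLib.resHDIso j K i)

/-- A model on an open, from pseudo-coherence. -/
theorem exists_model {m : ℤ} {K : DCoh.D X} (h : DCoh.IsPseudoCoherentD m K) (x : X) :
    ∃ (U : X.Opens) (E : CochainComplex (U : Scheme.{u}).Modules ℤ)
      (α : DCoh.toD _ E ⟶ (resD U.ι).obj K), x ∈ U ∧ DCoh.IsStrictlyPerfect E ∧ IAE α m := by
  obtain ⟨U, hx, hU⟩ := h x
  obtain ⟨E, α, hE, hα⟩ := hU _ ⟨DerivedCategory.Q.objObjPreimageIso K⟩
  exact ⟨U, E, α ≫ (resDQIso U.ι _).inv ≫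
    (resD U.ι).map (DerivedCategory.Q.objObjPreimageIso K).hom, hx, hE,
    IAE.comp hα ((IAE.of_isIso _ m).comp (IAE.of_isIso _ m))⟩

/-- The derived tensor product of pseudo-coherent objects. -/
theorem isPC_ten {n n' b b' : ℤ} (A B : DCoh.D X) (hA : DCoh.IsPseudoCoherentD n A)
    (hB : DCoh.IsPseudoCoherentD n' B) [A.IsLE b] [B.IsLE b'] :
    DCoh.IsPseudoCoherentD (max (n + b') (b + n')) (ten A B) := by
  rcases lt_or_ge b n with hn | hn
  · exact Groth.Agent.PerfLib.isPC_of_isZero_above fun i hi => isZero_ten A B b b' i (by omega)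
  rcases lt_or_ge b' n' with hn' | hn'
  · exact Groth.Agent.PerfLib.isPC_of_isZero_above fun i hi => isZero_ten A B b b' i (by omega)
  refine Groth.Agent.PerfLib.isPC_local fun x => ?_
  obtain ⟨U, E, α, hx, hE, hα⟩ := exists_model hA x
  refine ⟨U, U.ι, inferInstance, ⟨x, hx⟩, rfl, ?_⟩
  obtain ⟨r⟩ := ten_restrict U A B
  refine isPC_of_iso r.symm (Groth.Agent.PerfLib.isPC_local fun y => ?_)
  obtain ⟨W, E', α', hy, hE', hα'⟩ := exists_model (Groth.Agent.PerfLib.isPC_res hB U.ι) y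
  refine ⟨W, W.ι, inferInstance, ⟨y, hy⟩, rfl, ?_⟩
  obtain ⟨r'⟩ := ten_restrict W ((resD U.ι).obj A) ((resD U.ι).obj B)
  haveI := isLE_resD U.ι A b
  haveI := isLE_resD U.ι B b'
  haveI := isLE_resD W.ι ((resD U.ι).obj A) b
  haveI := isLE_resD W.ι ((resD U.ι).obj B) b'
  exact isPC_of_iso r'.symm (isPC_ten_of_models ((resD W.ι).obj ((resD U.ι).obj A))
    ((resD W.ι).obj ((resD U.ι).obj B)) _ E' (Groth.Agent.PerfLib.isStrictlyPerfect_res W.ι hE) hE'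
    ((resDQIso W.ι E).inv ≫ (resD W.ι).map α) α'
    ((IAE.of_isIso _ n).comp (hα.map (res W.ι))) hα' hn hn')

end TensorPCLib
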