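import Groth.Agent.TensorPCLib.Sch
import Groth.Agent.ImmPCLib.Bounded
import Groth.Agent.ProjClosedImmLib.Main

/-!
# Tensor products and direct images along closed immersions
-/

set_option autoImplicit false
set_option linter.style.haveILetI false
set_option backward.isDefEq.respectTransparency false
set_option backward.isDefEq.respectTransparency.types false
set_option maxHeartbeats 1000000

universe u

open CategoryTheory CategoryTheory.Limits CategoryTheory.Pretriangulated AlgebraicGeometry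
open Groth.Agent
open Groth.Agent.Dual3Lib (rep rep_kFlat repIso ten ten_cx ten_congr ten_comm ten_restrict ten_unit)
open Groth.Agent.PerfLib (resD res resC resDQIso isPC_of_iso IAE)
open Groth.Agent.ImmPCLib (pushD lim_push colim_push)

attribute [local instance] HasDerivedCategory.standard
attribute [local instance] lim_push colim_push

noncomputable section

namespace TensorPCLib

section
variable {X : Scheme.{u}}

theorem ten_shift (A B : DCoh.D X) (n : ℤ) : Nonempty (ten A (B⟦n⟧) ≅ (ten A B)⟦n⟧) := by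
  obtain ⟨e₁⟩ := ten_cx (rep A) ((rep B)⟦n⟧) (rep_kFlat A) (repIso A)
    ((DerivedCategory.Q.commShiftIso n).app (rep B) ≪≫ (shiftFunctor (DCoh.D X) n).mapIso (repIso B))
  obtain ⟨e₂⟩ := ten_cx (rep A) (rep B) (rep_kFlat A) (repIso A) (repIso B)
  exact ⟨e₁ ≪≫ DerivedCategory.Q.mapIso
    (CochainComplex.mapBifunctorShift₂Iso (rep A) (rep B) (DCoh.tensorBi (X := X)) n) ≪≫
    (DerivedCategory.Q.commShiftIso n).app _ ≪≫ (shiftFunctor (DCoh.D X) n).mapIso e₂.symm⟩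

theorem ten_shift_left (A B : DCoh.D X) (n : ℤ) : Nonempty (ten (A⟦n⟧) B ≅ (ten A B)⟦n⟧) := by
  obtain ⟨a⟩ := ten_comm (A⟦n⟧) B
  obtain ⟨b⟩ := ten_shift B A n
  obtain ⟨c⟩ := ten_comm B A
  exact ⟨a ≪≫ b ≪≫ (shiftFunctor (DCoh.D X) n).mapIso c⟩

end

variable {Z X : Scheme.{u}} (i : Z ⟶ X) [IsClosedImmersion i]

/-- The projection formula for a closed immersion. -/
theorem nonempty_push_ten (E : DCoh.D Z) (B : DCoh.D X) [DCoh.HasLpull i] :
    Nonempty ((pushD i).obj (ten E ((DCoh.Lpull i).obj B)) ≅ ten ((pushD i).obj E) B) := by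
  obtain ⟨e₁⟩ := ten_comm ((pushD i).obj E) B
  obtain ⟨e₂⟩ := ten_cx (rep B) ((ProjClosedImmLib.pushCx i).obj (rep E)) (rep_kFlat B) (repIso B)
    (((Scheme.Modules.pushforward i).mapDerivedCategoryFactors.app (rep E)).symm ≪≫
      (pushD i).mapIso (repIso E))
  obtain ⟨e₃⟩ := ten_cx (rep E) ((KFlatLib.pullCx i).obj (rep B)) (rep_kFlat E) (repIso E)
    ((KFlatLib.lpullObjIso i (rep B) (rep_kFlat B)).symm ≪≫ (DCoh.Lpull i).mapIso (repIso B))
  exact ⟨(pushD i).mapIso e₃ ≪≫ (Scheme.Modules.pushforward i).mapDerivedCategoryFactors.app _ ≪≫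
    DerivedCategory.Q.mapIso ((ProjClosedImmLib.pushTensorCxIso i (rep E) (rep B)).symm ≪≫
      (KFlatLib.tCxFlip ((ProjClosedImmLib.pushCx i).obj (rep E)) (rep B)).symm) ≪≫
    e₂.symm ≪≫ e₁.symm⟩

theorem isLE_pushD (K : DCoh.D Z) (b : ℤ) [K.IsLE b] : ((pushD i).obj K).IsLE b :=
  (DerivedCategory.isLE_iff _ _).mpr fun j hj =>
    (Groth.Agent.ImmPCLib.isZero_HD_push_iff i K j).2 (DerivedCategory.isZero_of_isLE K b j hj)

theorem isPC_push_of_local (m : ℤ) (E : DCoh.D Z)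
    (h : ∀ z : Z, ∃ U : X.Opens, i z ∈ U ∧
      DCoh.IsPseudoCoherentD m ((pushD (i ∣_ U)).obj ((resD (i ⁻¹ᵁ U).ι).obj E))) :
    DCoh.IsPseudoCoherentD m ((pushD i).obj E) := by
  refine Groth.Agent.PerfLib.isPC_local fun x => ?_
  by_cases hx : x ∈ Set.range i
  · obtain ⟨z, rfl⟩ := hx
    obtain ⟨U, hU, hp⟩ := h z
    obtain ⟨c⟩ := Groth.Agent.ImmPCLib.nonempty_resPush i U E
    exact ⟨U, U.ι, inferInstance, ⟨i z, hU⟩, rfl, isPC_of_iso c.symm hp⟩
  · let U : X.Opens := ⟨(Set.range i)ᶜ, i.isClosedEmbedding.isClosed_range.isOpen_compl⟩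
    exact ⟨U, U.ι, inferInstance, ⟨x, hx⟩, rfl, Groth.Agent.PerfLib.isPC_of_isZero_above fun j _ =>
      (DerivedCategory.homologyFunctor _ j).map_isZero
        (Groth.Agent.ImmPCLib.isZero_res_push i U (fun z hz => hz ⟨z, rfl⟩) E)⟩

/-- Tensoring with a finite free module. -/
theorem isPC_push_ten_free (G : DCoh.D Z) (c : ℤ) (hG : DCoh.IsPseudoCoherentD c ((pushD i).obj G))
    (F : Z.Modules) (hF : KFlatLib.IsFinFree F) :
    DCoh.IsPseudoCoherentD c ((pushD i).obj (ten (DCoh.inD Z F) G)) := by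
  obtain ⟨n, ⟨e⟩⟩ := hF
  obtain ⟨e'⟩ := ten_congr ((DerivedCategory.singleFunctor Z.Modules 0).mapIso e) (Iso.refl G)
  refine isPC_of_iso ((pushD i).mapIso e').symm ?_
  clear e e' F
  induction n with
  | zero =>
    refine Groth.Agent.PerfLib.isPC_of_isZero_above fun j _ =>
      (DerivedCategory.homologyFunctor _ j).map_isZero ((pushD i).map_isZero
        ((KFlatLib.tensorTriFun (rep G)).zero ((DerivedCategory.singleFunctor Z.Modules 0).map_isZero ?_)))
    rw [IsZero.iff_id_eq_zero]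
    exact Sigma.hom_ext _ _ fun k => k.elim0
  | succ n ih =>
    let F₀ := DerivedCategory.singleFunctor Z.Modules 0
    haveI := preservesBinaryBiproducts_of_preservesBiproducts F₀
    obtain ⟨a⟩ := ten_congr (F₀.mapIso (Groth.Agent.PerfLib.freeModSucc' Z n) ≪≫ F₀.mapBiprod _ _) (Iso.refl G)
    obtain ⟨T, hT, ⟨e₁⟩, ⟨e₂⟩, ⟨e₃⟩⟩ := exists_tri_left
      (binaryBiproductTriangle_distinguished (F₀.obj (Coh.structureModule Z)) (F₀.obj (FlatMod.freeMod Z n))) G
    obtain ⟨u⟩ := ten_unit G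
    obtain ⟨u'⟩ := ten_congr ((DerivedCategory.singleFunctorIsoCompQ Z.Modules 0).app (Coh.structureModule Z)) (Iso.refl G)
    exact isPC_of_iso ((pushD i).mapIso (e₂ ≪≫ a.symm)) (Groth.Agent.PerfLib.isPC_obj₂ _
      ((pushD i).map_distinguished T hT) c
      (isPC_of_iso ((pushD i).mapIso (e₁ ≪≫ u' ≪≫ u)).symm hG)
      (isPC_of_iso ((pushD i).mapIso e₃).symm ih))

omit i in
theorem isPC_push_ten_aux (n : ℕ) : ∀ {Z X : Scheme.{u}} (i : Z ⟶ X) [IsClosedImmersion i] (A G : DCoh.D Z)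
    (a b c d : ℤ), b + 1 - a ≤ n → DCoh.IsPseudoCoherentD a A → A.IsLE b → G.IsLE d →
      DCoh.IsPseudoCoherentD c ((pushD i).obj G) →
        DCoh.IsPseudoCoherentD (max (a + d) (b + c)) ((pushD i).obj (ten A G)) := by
  induction n with
  | zero =>
    intro Z X i _ A G a b c d hn _ hb hd _
    haveI := hb
    haveI := hd
    exact Groth.Agent.PerfLib.isPC_of_isZero_above fun j hj =>
      (Groth.Agent.ImmPCLib.isZero_HD_push_iff i _ j).2 (isZero_ten A G b d j (by omega))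
  | succ n ih =>
    intro Z X i _ A G a b c d hn hA hAb hGd hG
    by_cases hlt : b + 1 - a ≤ n
    · exact ih i A G a b c d hlt hA hAb hGd hG
    haveI := hAb
    haveI := hGd
    have hz : ∀ j, b < j → IsZero (DCoh.HD A j) := fun j hj => DerivedCategory.isZero_of_isLE A b j hj
    have hFT : CohB1.IsFT (DCoh.HD A b) :=
      Groth.Agent.PerfLib.isFT_HD_top (Groth.Agent.PerfLib.isPC_mono (by omega) hA) hz
    refine isPC_push_of_local i _ _ fun z => ?_
    obtain ⟨V₀, hV₀, r, s, hs⟩ := QCohLib.exists_genOn_of_isFT hFT z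
    let σ := (QCohLib.genTop_restrict hs).generatingSections
    have hσ : KFlatLib.IsFinFree (SheafOfModules.free (R := (V₀ : Scheme.{u}).ringCatSheaf) σ.I :
        (V₀ : Scheme.{u}).Modules) :=
      @Groth.Agent.PerfLib.isFinFree_free _ σ.I (inferInstanceAs (Finite (ULift.{u} (Fin r))))
    obtain ⟨U, rfl⟩ := Groth.Agent.ImmPCLib.exists_preimage_opens i V₀
    refine ⟨U, hV₀, ?_⟩
    let Z' : Scheme.{u} := (i ⁻¹ᵁ U : Z.Opens)
    let A' : DCoh.D Z' := (resD (i ⁻¹ᵁ U).ι).obj A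
    let G' : DCoh.D Z' := (resD (i ⁻¹ᵁ U).ι).obj G
    haveI : A'.IsLE b := isLE_resD _ A b
    haveI : G'.IsLE d := isLE_resD _ G d
    have hz' : ∀ j, b < j → IsZero (DCoh.HD A' j) := fun j hj => DerivedCategory.isZero_of_isLE A' b j hj
    obtain ⟨r₁⟩ := ten_restrict (i ⁻¹ᵁ U) A G
    refine isPC_of_iso ((pushD (i ∣_ U)).mapIso r₁).symm ?_
    have hG' : DCoh.IsPseudoCoherentD c ((pushD (i ∣_ U)).obj G') := by
      obtain ⟨c'⟩ := Groth.Agent.ImmPCLib.nonempty_resPush i U G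
      exact isPC_of_iso c' (Groth.Agent.PerfLib.isPC_res hG U.ι)
    let π : (SheafOfModules.free (R := Z'.ringCatSheaf) σ.I : Z'.Modules) ⟶
        (DCoh.HD A b).restrict (i ⁻¹ᵁ U).ι := σ.π
    haveI : Epi π := σ.epi
    let p := π ≫ (Groth.Agent.PerfLib.resHDIso (i ⁻¹ᵁ U).ι A b).inv
    refine isPC_push_of_local (i ∣_ U) _ _ fun w => ?_
    obtain ⟨V, hV, T, hT, ⟨e₁⟩, ⟨e₂⟩, h₃⟩ := Groth.Agent.ImmPCLib.exists_triangle_local A' b hz' _ hσ p w
    obtain ⟨U', rfl⟩ := Groth.Agent.ImmPCLib.exists_preimage_opens (i ∣_ U) V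
    refine ⟨U', hV, ?_⟩
    let G'' := (resD ((i ∣_ U) ⁻¹ᵁ U').ι).obj G'
    haveI : G''.IsLE d := isLE_resD _ G' d
    let P := pushD ((i ∣_ U) ∣_ U')
    have hG'' : DCoh.IsPseudoCoherentD c (P.obj G'') := by
      obtain ⟨c'⟩ := Groth.Agent.ImmPCLib.nonempty_resPush (i ∣_ U) U' G'
      exact isPC_of_iso c' (Groth.Agent.PerfLib.isPC_res hG' U'.ι)
    obtain ⟨r₂⟩ := ten_restrict ((i ∣_ U) ⁻¹ᵁ U') A' G'
    have hf := Groth.Agent.ImmPCLib.isFinFree_top hσ ((i ∣_ U) ⁻¹ᵁ U')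
    have h1 : DCoh.IsPseudoCoherentD (a + 1) T.obj₁ := by
      have := Groth.Agent.PerfLib.isPC_shift (Groth.Agent.PerfLib.isPC_single_locFree (a + 1 - b)
        (KFlatLib.isFinLocFree_of_isFinFree hf)) (-b)
      rw [show a + 1 - b - -b = a + 1 by ring] at this
      exact isPC_of_iso e₁.symm this
    have hA'' : DCoh.IsPseudoCoherentD a T.obj₂ :=
      isPC_of_iso e₂.symm (Groth.Agent.PerfLib.isPC_res (Groth.Agent.PerfLib.isPC_res hA _) _)
    have h3 := ih ((i ∣_ U) ∣_ U') T.obj₃ G'' a (b - 1) c d (by omega)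
      (Groth.Agent.PerfLib.isPC_obj₃ T hT a h1 hA'')
      ((DerivedCategory.isLE_iff _ _).mpr fun j hj => h₃ j (by omega)) inferInstance hG''
    obtain ⟨S, hS, ⟨s₁⟩, ⟨s₂⟩, ⟨s₃⟩⟩ := exists_tri_left hT G''
    obtain ⟨t₁⟩ := ten_congr e₁ (Iso.refl G'')
    obtain ⟨t₂⟩ := ten_shift_left (DCoh.inD _ ((res ((i ∣_ U) ⁻¹ᵁ U').ι).obj
      (SheafOfModules.free (R := Z'.ringCatSheaf) σ.I : Z'.Modules))) G'' (-b)
    obtain ⟨t₃⟩ := ten_congr e₂ (Iso.refl G'')
    have hfree := Groth.Agent.PerfLib.isPC_shift (isPC_push_ten_free ((i ∣_ U) ∣_ U') G'' c hG'' _ hf) (-b)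
    rw [sub_neg_eq_add] at hfree
    refine isPC_of_iso (P.mapIso (s₂ ≪≫ t₃ ≪≫ r₂.symm)) (Groth.Agent.PerfLib.isPC_obj₂ _
      (P.map_distinguished S hS) _ ?_ (isPC_of_iso (P.mapIso s₃).symm
        (Groth.Agent.PerfLib.isPC_mono (by omega) h3)))
    exact isPC_of_iso (P.mapIso (s₁ ≪≫ t₁ ≪≫ t₂) ≪≫ (P.commShiftIso (-b)).app _).symm
      (Groth.Agent.PerfLib.isPC_mono (by omega) hfree)

/-- The direct image of a derived tensor product. -/
theorem isPC_push_ten (A G : DCoh.D Z) (a b c d : ℤ) (hA : DCoh.IsPseudoCoherentD a A) [hb : A.IsLE b]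
    [hd : G.IsLE d] (hG : DCoh.IsPseudoCoherentD c ((pushD i).obj G)) :
    DCoh.IsPseudoCoherentD (max (a + d) (b + c)) ((pushD i).obj (ten A G)) :=
  isPC_push_ten_aux (b + 1 - a).toNat i A G a b c d (Int.self_le_toNat _) hA hb hd hG

end TensorPCLib
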